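/-
Project E11 (S3403): the facts on `J₁` (job E11-JF).
-/
import Cfsg.Agent.E11.St
import Cfsg.Agent.Known.SpecJ1
import Cfsg.Agent.S2065

set_option autoImplicit false
set_option linter.unusedSectionVars false

namespace CL.E11

open MulAction Subgroup CL.JTW CL.Spec CL.Perm

universe u

namespace JFx

theorem a1 : ∀ a b : alternatingGroup (Fin 5), a ^ 5 = 1 → a ≠ 1 → b * a = a * b → ∃ i : Fin 5, b = a ^ (i : ℕ) := by
  decide +kernel

theorem a2 : ∀ a b : alternatingGroup (Fin 5), a ^ 5 = 1 → b ^ 5 = 1 → b ≠ 1 →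
    ∃ g, ∃ i : Fin 5, g * a * g⁻¹ = b ^ (i : ℕ) := by
  decide +kernel

theorem a3 : ∀ a : alternatingGroup (Fin 5), a ^ 5 = 1 → ∃ r, r * a * r⁻¹ = a⁻¹ := by
  decide +kernel

variable {H : Type} [Group H] [Finite H]

/-- a Sylow subgroup of prime order -/
def syl {p m : ℕ} [Fact p.Prime] (hc : Nat.card H = p * m) (hm : ¬ p ∣ m) {x : H} (hx : orderOf x = p) : Sylow p H :=
  (IsPGroup.of_card (n := 1) (by rw [Nat.card_zpowers, hx, pow_one]) : IsPGroup p (zpowers x)).toSylow (by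
    have := (zpowers x).card_mul_index
    rw [Nat.card_zpowers, hx, hc] at this
    rwa [Nat.eq_of_mul_eq_mul_left (Fact.out : p.Prime).pos this])

theorem c11 (hc : Nat.card H = 175560) (hs : Spec H = {k | k ∈ [1, 2, 3, 5, 6, 7, 10, 11, 15, 19]}) {x : H}
    (hx : orderOf x = 11) : centralizer {x} = zpowers x := by
  have : Fact (Nat.Prime 11) := ⟨by norm_num⟩
  have o : ∀ y : H, orderOf y ∈ [1, 2, 3, 5, 6, 7, 10, 11, 15, 19] := fun y => hs.le ⟨y, rfl⟩
  have p : IsPGroup 11 (centralizer {x}) := fun y => ⟨1, Subtype.ext (orderOf_dvd_iff_pow_eq_one.1 (by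
    by_cases k : 11 ∣ orderOf (y : H)
    · have := o y
      simp only [List.mem_cons, List.not_mem_nil, or_false] at this
      rw [show orderOf (y : H) = 11 by omega, pow_one]
    · have := o (x * y)
      rw [(Commute.symm (mem_centralizer_singleton_iff.1 y.2)).orderOf_mul_eq_mul_orderOf_of_coprime
        (hx ▸ (Nat.Prime.coprime_iff_not_dvd Fact.out).2 k), hx] at this
      simp only [List.mem_cons, List.not_mem_nil, or_false] at this
      rw [show orderOf (y : H) = 1 by omega]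
      exact one_dvd _))⟩
  exact (syl (m := 15960) hc (by norm_num) hx).is_maximal' p
    (zpowers_le.2 (mem_centralizer_singleton_iff.2 rfl))

theorem n11 (hc : Nat.card H = 175560) (hs : Spec H = {k | k ∈ [1, 2, 3, 5, 6, 7, 10, 11, 15, 19]}) {x : H}
    (hx : orderOf x = 11) : ∃ y, y * x * y⁻¹ = x ^ 2 := by
  have : Fact (Nat.Prime 11) := ⟨by norm_num⟩
  have cz : Nat.card (zpowers x) = 11 := by rw [Nat.card_zpowers, hx]
  have h1 := card_sylow_modEq_one 11 H
  rw [(syl (m := 15960) hc (by norm_num) hx).card_eq_index_normalizer] at h1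
  change (normalizer (zpowers x : Set H)).index % 11 = 1 % 11 at h1
  have h2 := (normalizer (zpowers x : Set H)).card_mul_index
  have h3 := (zpowers x).normalizerMonoidHom.ker.card_mul_index
  have h4 := card_subgroup_dvd_card (zpowers x).normalizerMonoidHom.range
  have h5 := IsCyclic.card_mulAut (zpowers x)
  rw [cz, show Nat.totient 11 = 10 by decide] at h5
  rw [index_ker, normalizerMonoidHom_ker, zpowers_eq_closure x, centralizer_closure, c11 hc hs hx, ← zpowers_eq_closure x,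
    Nat.card_congr (subgroupOfEquivOfLe le_normalizer).toEquiv, cz] at h3
  have h6 : (zpowers x).normalizerMonoidHom.range = ⊤ := eq_top_of_card_eq _ (by
    rw [h5] at h4 ⊢
    rw [← h3, hc] at h2
    have := Nat.le_of_dvd (by norm_num) h4
    generalize Nat.card (zpowers x).normalizerMonoidHom.range = d at *
    interval_cases d <;> omega)
  obtain ⟨y, hy⟩ : MulEquiv.ofBijective (MonoidHom.mk' (fun z : zpowers x => z ^ 2) fun a b =>
      Commute.mul_pow ((zpowers_isMulCommutative x).is_comm.comm a b) 2) (powCoprime (by rw [cz]; decide)).bijective ∈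
      (zpowers x).normalizerMonoidHom.range := h6 ▸ mem_top _
  exact ⟨y, congrArg (fun σ : MulAut (zpowers x) => (σ ⟨x, mem_zpowers x⟩ : H)) hy⟩

variable {t : H} {ι : alternatingGroup (Fin 5) →* H}

theorem five (h : Split t ι) {j : H} (hj : orderOf j = 5) (c : t * j = j * t) : ∃ a, a ^ 5 = 1 ∧ a ≠ 1 ∧ j = ι a := by
  obtain ⟨a, -, rfl⟩ := h.exists_eq_of_odd c.symm (by omega)
  rw [h.orderOf_iota] at hj
  exact ⟨a, orderOf_dvd_iff_pow_eq_one.1 hj.dvd, fun e => by rw [e, orderOf_one] at hj; omega, rfl⟩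

theorem c10 (h : Split t ι) {j y : H} (hj : orderOf j = 5) (c : t * j = j * t) (h1 : y * t = t * y)
    (h2 : y * j = j * y) : y ∈ zpowers (t * j) := by
  have c' : Commute t j := c
  have j5 : j ^ 5 = 1 := hj ▸ pow_orderOf_eq_one j
  have m1 : t ∈ zpowers (t * j) := mem_zpowers_iff.2 ⟨(5 : ℕ), by
    rw [zpow_natCast, c'.mul_pow, j5, mul_one, show 5 = 2 * 2 + 1 from rfl, pow_succ, pow_mul, pow_two t, h.tt,
      one_pow, one_mul]⟩
  have m2 : j ∈ zpowers (t * j) := (mul_mem_cancel_left m1).1 (mem_zpowers _)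
  obtain ⟨a, a5, a1', rfl⟩ := five h hj c
  have k : ∀ b, ι b * ι a = ι a * ι b → ι b ∈ zpowers (t * ι a) := fun b e => by
    obtain ⟨i, rfl⟩ := a1 a b a5 a1' (h.inj (by rw [map_mul, map_mul, e]))
    exact map_pow ι a i ▸ pow_mem m2 i
  obtain ⟨b, rfl | rfl⟩ := h.cent y h1
  · exact k b h2
  · exact mul_mem m1 (k b (mul_left_cancel (a := t) (by rw [← mul_assoc, h2, h.mul_t_mul])))

theorem tb {G : Type u} [Group G] [hs : IsSimpleGroup H] (f : H →* G) (hf : Function.Injective f) (h : Setup t ι)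
    (hc : Nat.card H = 175560) (sp : Spec H = {k | k ∈ [1, 2, 3, 5, 6, 7, 10, 11, 15, 19]})
    (ho : ∀ σ : MulAut H, σ ∈ Cfsg.Inn H) : TB f.range := by
  have o := orderOf_injective f hf
  have c : ∀ {a b : H}, f a * f b = f b * f a → a * b = b * a := fun e => hf (by rw [map_mul, map_mul, e])
  have ex : ∀ k ∈ [1, 2, 3, 5, 6, 7, 10, 11, 15, 19], ∃ y : H, orderOf y = k := fun k hk => sp.ge hk
  refine ⟨(MonoidHom.ofInjective hf).symm.isSimpleGroup, (Nat.card_congr (MonoidHom.ofInjective hf).toEquiv).symm.trans hc,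
    fun g hg => ?_, ?_, ?_, ?_, ?_, ?_, ?_, ?_, ?_, let ⟨y, hy⟩ := ex 6 (by decide); ⟨f y, ⟨y, rfl⟩, (o y).trans hy⟩⟩
  · choose φ hφ using fun x : H => hg (f x) ⟨x, rfl⟩
    obtain ⟨j, hj⟩ := ho (MulEquiv.ofBijective (MonoidHom.mk' φ fun a b => hf (by
      rw [map_mul, hφ, hφ, hφ, map_mul, conj_mul])) (Finite.injective_iff_bijective.1 fun a b (e : φ a = φ b) =>
        hf (by simpa [hφ] using congrArg f e)))
    refine ⟨f j, ⟨j, rfl⟩, ?_⟩
    rintro _ ⟨x, rfl⟩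
    rw [← hφ, ← map_inv, ← map_mul, ← map_mul]
    exact congrArg (fun σ : MulAut H => f (σ x)) hj.symm
  · rintro _ ⟨y, rfl⟩ e
    rw [← map_pow, ← map_one f] at e ⊢
    obtain ⟨k, -, hk⟩ := (Nat.dvd_prime_pow Nat.prime_two (m := 2)).1 (orderOf_dvd_of_pow_eq_one (hf e))
    rw [pow_two, h.mul_self_of_pElt ⟨k, hk⟩]
  · rintro _ ⟨x, rfl⟩ _ ⟨y, rfl⟩ h1 h2
    obtain ⟨g, rfl⟩ := isConj_iff.1 (h.isConj_invol ((o x).symm.trans h1) ((o y).symm.trans h2))
    exact ⟨f g, ⟨g, rfl⟩, by simp⟩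
  · rintro _ ⟨x, rfl⟩ h1 _ ⟨y, rfl⟩ h2
    exact f.map_zpowers x ▸ mem_map_of_mem f (c11 hc sp ((o x).symm.trans h1) ▸ mem_centralizer_singleton_iff.2 (c h2))
  · rintro _ ⟨x, rfl⟩ h1
    obtain ⟨y, hy⟩ := n11 hc sp ((o x).symm.trans h1)
    exact ⟨f y, ⟨y, rfl⟩, by simpa using congrArg f hy⟩
  · rintro _ ⟨s, rfl⟩ _ ⟨j, rfl⟩ h1 h2 h3 _ ⟨y, rfl⟩ h4 h5
    obtain ⟨ι', h'⟩ := h.exists_setup ((o s).symm.trans h1)
    rw [← map_mul, ← f.map_zpowers]
    exact mem_map_of_mem f (c10 h'.toSplit ((o j).symm.trans h2) (c h3) (c h4) (c h5))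
  · rintro _ ⟨s, rfl⟩ _ ⟨j, rfl⟩ _ ⟨j', rfl⟩ h1 h2 h3 h4 h5
    obtain ⟨ι', h'⟩ := h.exists_setup ((o s).symm.trans h1)
    obtain ⟨a, a5, -, rfl⟩ := five h'.toSplit ((o j).symm.trans h2) (c h4)
    obtain ⟨b, b5, b1, rfl⟩ := five h'.toSplit ((o j').symm.trans h3) (c h5)
    obtain ⟨g, i, e⟩ := a2 a b a5 b5 b1
    exact ⟨f (ι' g), ⟨_, rfl⟩, by rw [← map_mul, h'.comm, map_mul],
      mem_zpowers_iff.2 ⟨(i : ℕ), by simpa using (congrArg (fun z => f (ι' z)) e).symm⟩⟩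
  · rintro _ ⟨s, rfl⟩ _ ⟨j, rfl⟩ h1 h2 h4
    obtain ⟨ι', h'⟩ := h.exists_setup ((o s).symm.trans h1)
    obtain ⟨a, a5, -, rfl⟩ := five h'.toSplit ((o j).symm.trans h2) (c h4)
    obtain ⟨g, e⟩ := a3 a a5
    exact ⟨f (ι' g), ⟨_, rfl⟩, by rw [← map_mul, h'.comm, map_mul], by simpa using congrArg (fun z => f (ι' z)) e⟩
  · rintro _ ⟨j, rfl⟩ h1
    have : Fact (Nat.Prime 5) := ⟨by norm_num⟩
    obtain ⟨y, hy⟩ := ex 15 (by decide)
    have o3 : orderOf (y ^ 3) = 5 := by rw [orderOf_pow' y (by norm_num), hy]; rfl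
    have o5 : orderOf (y ^ 5) = 3 := by rw [orderOf_pow' y (by norm_num), hy]; rfl
    obtain ⟨g, hg⟩ := exists_smul_eq H (syl (m := 35112) hc (by norm_num) o3)
      (syl (m := 35112) hc (by norm_num) ((o j).symm.trans h1))
    have m : j ∈ ((g • syl (m := 35112) hc (by norm_num) o3 : Sylow 5 H) : Subgroup H) := hg ▸ mem_zpowers j
    obtain ⟨_, ⟨k, rfl⟩, e⟩ := m
    refine ⟨f (g * y ^ 5 * g⁻¹), ⟨_, rfl⟩, by rw [o, ← o5]; exact (MulAut.conj g).orderOf_eq _, ?_⟩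
    rw [← map_mul, ← map_mul, ← e]
    exact congrArg f ((((Commute.refl y).pow_pow 5 3).zpow_right k).conj g).eq

end JFx

theorem jf : JFs.{u} := by
  intro G _ _ J ⟨e⟩
  obtain ⟨e'⟩ := nonempty_JM_J1
  obtain ⟨ι, h⟩ := exists_setup_xM
  have := JFx.tb (J.subtype.comp (e'.trans e.symm).toMonoidHom) (J.subtype_injective.comp (e'.trans e.symm).injective)
    h card_JM spec_JM fun σ => by
      rw [index_eq_one.1 ((CL.Pc.card_out_congr e').trans Cfsg.Agent.S2065.result : (Cfsg.Inn JM).index = 1)]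
      exact mem_top σ
  rwa [MonoidHom.range_comp, MonoidHom.range_eq_top.2 (e'.trans e.symm).surjective, ← MonoidHom.range_eq_map,
    range_subtype] at this

end CL.E11
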